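import Cfsg.Agent.Lib.Geometric.SkewPairApply

/-!
The stabiliser of a pair of complementary totally isotropic planes is maximal in the special
unitary group of a space of dimension four over a field with at least sixteen elements.
-/

set_option autoImplicit false

namespace CfsgLib.Geometric.SUFour

open Matrix

variable {ι : Type} [Fintype ι] [DecidableEq ι] {F : Type*} [Field F]

/-- A skew-hermitian pairing with two complementary totally singular subspaces of dimension at
least two. -/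
structure HermPair (τ : F ≃+* F) (B : (ι → F) → (ι → F) → F)
    (U U' : Submodule F (ι → F)) : Prop where
  add_left : ∀ x y z, B (x + y) z = B x z + B y z
  smul_left : ∀ (c : F) x y, B (c • x) y = c * B x y
  add_right : ∀ x y z, B x (y + z) = B x y + B x z
  smul_right : ∀ (c : F) x y, B x (c • y) = τ c * B x y
  eq_zero_comm : ∀ x y, B x y = 0 ↔ B y x = 0
  sep : ∀ (S : Submodule F (ι → F)) (x : ι → F), x ∉ S →
    ∃ y, (∀ s ∈ S, B s y = 0) ∧ B x y = 1
  compl : IsCompl U U'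
  sing : ∀ a ∈ U, ∀ b ∈ U, B a b = 0
  sing' : ∀ a ∈ U', ∀ b ∈ U', B a b = 0
  finrank_eq : Module.finrank F U' = Module.finrank F U
  two_le : 2 ≤ Module.finrank F U
  invol : ∀ a, τ (τ a) = a
  skew : ∀ v w, B v w = -τ (B w v)
  trace : ∀ t, τ t = t → ∃ c, c + τ c = t

namespace HermPair

variable {τ : F ≃+* F} {B : (ι → F) → (ι → F) → F} {U U' : Submodule F (ι → F)}

section Basics

variable (hP : HermPair τ B U U')
include hP

omit [DecidableEq ι] [Fintype ι] in
lemma sub_left (x y z : ι → F) : B (x - y) z = B x z - B y z := by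
  have := hP.add_left (x - y) y z
  rw [sub_add_cancel] at this
  exact (eq_sub_of_add_eq this.symm)

omit [DecidableEq ι] [Fintype ι] in
lemma zero_left (y : ι → F) : B 0 y = 0 := by simpa using hP.smul_left 0 0 y

omit [DecidableEq ι] [Fintype ι] in
lemma symm' : HermPair τ B U' U :=
  { hP with
    compl := hP.compl.symm
    sing := hP.sing'
    sing' := hP.sing
    finrank_eq := hP.finrank_eq.symm
    two_le := hP.finrank_eq.symm ▸ hP.two_le }

omit [DecidableEq ι] [Fintype ι] in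
lemma decomp (x : ι → F) : ∃ u ∈ U, ∃ u' ∈ U', x = u + u' := by
  obtain ⟨a, ha, b, hb, h⟩ := Submodule.mem_sup.mp
    (hP.compl.sup_eq_top.symm ▸ Submodule.mem_top : x ∈ U ⊔ U')
  exact ⟨a, ha, b, hb, h.symm⟩

omit [DecidableEq ι] [Fintype ι] in
lemma unique {u u' v v' : ι → F} (hu : u ∈ U) (hu' : u' ∈ U') (hv : v ∈ U) (hv' : v' ∈ U')
    (h : u + u' = v + v') : u = v ∧ u' = v' := by
  have h1 : u - v = v' - u' := by rw [sub_eq_sub_iff_add_eq_add, h, add_comm]
  have h2 : u - v = 0 := Submodule.disjoint_def.mp hP.compl.disjoint _ (U.sub_mem hu hv)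
    (h1 ▸ U'.sub_mem hv' hu')
  refine ⟨sub_eq_zero.1 h2, ?_⟩
  rw [h1] at h2
  exact (sub_eq_zero.1 h2).symm

omit [DecidableEq ι] [Fintype ι] in
/-- Separation of `x ∈ U` from a subspace of `U` by an element of `U'`. -/
lemma sep' {S : Submodule F (ι → F)} (hS : S ≤ U) {x : ι → F} (hx : x ∈ U) (hxS : x ∉ S) :
    ∃ y ∈ U', (∀ s ∈ S, B s y = 0) ∧ B x y = 1 := by
  obtain ⟨y, hy, hxy⟩ := hP.sep S x hxS
  obtain ⟨a, ha, a', ha', rfl⟩ := hP.decomp y
  refine ⟨a', ha', fun s hs => ?_, ?_⟩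
  · have := hy s hs
    rwa [hP.add_right, hP.sing s (hS hs) a ha, zero_add] at this
  · rwa [hP.add_right, hP.sing x hx a ha, zero_add] at hxy

omit [DecidableEq ι] [Fintype ι] in
lemma sep_one {x y : ι → F} (hx : x ∈ U) (hy : y ∈ U) (h : x ∉ Submodule.span F {y}) :
    ∃ a ∈ U', B y a = 0 ∧ B x a = 1 := by
  obtain ⟨a, ha, h1, h2⟩ := hP.sep' ((Submodule.span_singleton_le_iff_mem _ _).2 hy) hx h
  exact ⟨a, ha, h1 y (Submodule.mem_span_singleton_self y), h2⟩

omit [DecidableEq ι] in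
/-- A non-zero vector of `U` orthogonal to `z`. -/
lemma exists_perp_zero (z : ι → F) : ∃ b ∈ U, B b z = 0 ∧ b ≠ 0 := by
  let φ : (ι → F) →ₗ[F] F :=
    { toFun := fun x => B x z
      map_add' := fun x y => hP.add_left x y z
      map_smul' := fun c x => hP.smul_left c x z }
  have h3 := Submodule.finrank_sup_add_finrank_inf_eq U (LinearMap.ker φ)
  have h4 := Submodule.finrank_le (U ⊔ LinearMap.ker φ)
  have h5 := φ.finrank_range_add_finrank_ker
  have h6 : Module.finrank F (LinearMap.range φ) ≤ 1 :=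
    (Submodule.finrank_le _).trans_eq (Module.finrank_self F)
  have := hP.two_le
  obtain ⟨b, hb, hb0⟩ := Submodule.exists_mem_ne_zero_of_ne_bot
    (p := U ⊓ LinearMap.ker φ) fun h => by
      rw [h, finrank_bot] at h3
      omega
  exact ⟨b, hb.1, hb.2, hb0⟩

omit hP [DecidableEq ι] in
/-- Two independent vectors span a plane. -/
lemma span_two {V : Submodule F (ι → F)} (hV : Module.finrank F V = 2) {a b : ι → F} (ha : a ∈ V)
    (hb : b ∈ V) (ha0 : a ≠ 0) (hab : b ∉ Submodule.span F {a}) {y : ι → F} (hy : y ∈ V) :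
    ∃ c d : F, y = c • a + d • b := by
  have hli : LinearIndependent F ![a, b] := by
    rw [LinearIndependent.pair_iff]
    intro s r h
    by_cases hr : r = 0
    · rw [hr, zero_smul, add_zero] at h
      exact ⟨(smul_eq_zero.1 h).resolve_right ha0, hr⟩
    · refine absurd (Submodule.mem_span_singleton.2 ⟨-(r⁻¹ * s), ?_⟩) hab
      have e : r • b = -(s • a) := by rw [eq_neg_iff_add_eq_zero, add_comm, h]
      rw [neg_smul, mul_smul, ← smul_neg, ← e, smul_smul, inv_mul_cancel₀ hr, one_smul]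
  have h := Submodule.eq_of_le_of_finrank_le
    (show Submodule.span F (Set.range ![a, b]) ≤ V from
      Submodule.span_le.2 (by rintro _ ⟨i, rfl⟩; fin_cases i <;> assumption))
    (by rw [finrank_span_eq_card hli, hV, Fintype.card_fin])
  rw [← h, Submodule.mem_span_range_iff_exists_fun] at hy
  obtain ⟨c, hc⟩ := hy
  exact ⟨c 0, c 1, by rw [← hc, Fin.sum_univ_two]; rfl⟩

end Basics


variable {τ : F ≃+* F} {B : (ι → F) → (ι → F) → F} {U U' : Submodule F (ι → F)}

/-- The functional `B(·, v)`. -/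
def fl (hP : HermPair τ B U U') (v : ι → F) : (ι → F) →ₗ[F] F where
  toFun x := B x v
  map_add' x y := hP.add_left x y v
  map_smul' c x := hP.smul_left c x v

/-- The transvection `x ↦ x + c B(x,v) v`. -/
def tr (hP : HermPair τ B U U') (v : ι → F) (c : F) (hv : B v v = 0) : GL ι F :=
  tv v (c • fl hP v) (by simp [fl, hv])

lemma ap_tr (hP : HermPair τ B U U') {v : ι → F} {c : F} (hv : B v v = 0) (x : ι → F) :
    ap (tr hP v c hv) x = x + (c * B x v) • v := by
  rw [tr, ap_tv]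
  rfl

variable (hS : HermPair τ B U U') {G : Subgroup (GL ι F)}
  (hGB : ∀ g ∈ G, ∀ x y, B (ap g x) (ap g y) = B x y)
  (hT : ∀ v c (hv : B v v = 0), τ c = c → tr hS v c hv ∈ G)

omit [Fintype ι] [DecidableEq ι] in
include hS in
lemma skew_one {x y : ι → F} (h : B x y = 1) : B y x = -1 := by
  rw [hS.skew, h, map_one]

include hS hGB hT

omit hGB in
/-- The root element of two orthogonal isotropic vectors. -/
lemma exists_root {a b : ι → F} (ha : B a a = 0) (hb : B b b = 0) (hab : B a b = 0) :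
    ∃ h ∈ G, ∀ x, ap h x = x + B x a • b + B x b • a := by
  have hP := hS
  have hba : B b a = 0 := (hP.eq_zero_comm _ _).1 hab
  have hsum : B (a + b) (a + b) = 0 := by
    rw [hP.add_left, hP.add_right, hP.add_right, ha, hb, hab, hba]; simp
  refine ⟨tr hP (a + b) 1 hsum * tr hP a (-1) ha * tr hP b (-1) hb,
    mul_mem (mul_mem (hT _ _ _ (map_one τ)) (hT _ _ _ (by rw [map_neg, map_one])))
      (hT _ _ _ (by rw [map_neg, map_one])), fun x => ?_⟩
  simp only [ap_mul, ap_tr, hP.add_left, hP.smul_left, hP.add_right, ha, hb, hab, hba]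
  module

omit hGB in
/-- An element of `G` exchanging `U` and `U'`. -/
lemma exists_swap : ∃ sw ∈ G, MapsIn sw U U' ∧ MapsIn sw U' U := by
  classical
  have hP := hS
  set b := Module.finBasis F U
  have hdual : ∀ i, ∃ f ∈ U', B (b i : ι → F) f = 1 ∧
      ∀ j, j ≠ i → B (b j : ι → F) f = 0 := by
    intro i
    obtain ⟨f, hf, hf0, hf1⟩ := hP.sep' (S := (Submodule.span F (b '' {j | j ≠ i})).map U.subtype)
      (fun x hx => by obtain ⟨y, -, rfl⟩ := hx; exact y.2) (b i).2 (by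
        rintro ⟨y, hy, hyx⟩
        obtain rfl : y = b i := Subtype.ext hyx
        exact b.linearIndependent.notMem_span_image (by simp) hy)
    exact ⟨f, hf, hf1, fun j hj => hf0 _ ⟨b j, Submodule.subset_span ⟨j, hj, rfl⟩, rfl⟩⟩
  choose f hfU hf1 hf0 using hdual
  set e : Fin (Module.finrank F U) → ι → F := fun i => (b i : ι → F) with he
  have hee : ∀ i j, B (e i) (e j) = 0 := fun i j => hP.sing _ (b i).2 _ (b j).2
  have hff : ∀ i j, B (f i) (f j) = 0 := fun i j => hP.sing' _ (hfU i) _ (hfU j)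
  have hef : ∀ i j, i ≠ j → B (e i) (f j) = 0 := fun i j h => hf0 j i h
  have hfe : ∀ i j, i ≠ j → B (f i) (e j) = 0 := fun i j h =>
    (hP.eq_zero_comm _ _).1 (hf0 i j (Ne.symm h))
  have hfe1 : ∀ i, B (f i) (e i) = -1 := fun i => skew_one hS (hf1 i)
  have hef1 : ∀ i, B (e i) (f i) = 1 := hf1
  have hw : ∀ i, ∃ w ∈ G, ap w (e i) = f i ∧ ap w (f i) = -e i ∧
      ∀ j, j ≠ i → ap w (e j) = e j ∧ ap w (f j) = f j := by
    intro i
    refine ⟨tr hP (e i) 1 (hee i i) * tr hP (f i) 1 (hff i i) * tr hP (e i) 1 (hee i i),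
      mul_mem (mul_mem (hT _ _ _ (map_one τ)) (hT _ _ _ (map_one τ))) (hT _ _ _ (map_one τ)),
      ?_, ?_, fun j hj => ⟨?_, ?_⟩⟩
    · simp only [ap_mul, ap_tr, hP.add_left, hP.smul_left, hee, hef1, hfe1]; module
    · simp only [ap_mul, ap_tr, hP.add_left, hP.smul_left, hee, hff, hef1, hfe1]; module
    · simp only [ap_mul, ap_tr, hP.add_left, hP.smul_left, hee, hef j i hj]; module
    · simp only [ap_mul, ap_tr, hP.add_left, hP.smul_left, hff, hfe j i hj]; module
  have hall : ∀ s : Finset (Fin (Module.finrank F U)), ∃ w ∈ G,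
      (∀ i ∈ s, ap w (e i) = f i ∧ ap w (f i) = -e i) ∧
        ∀ i ∉ s, ap w (e i) = e i ∧ ap w (f i) = f i := by
    intro s
    induction s using Finset.induction with
    | empty => exact ⟨1, one_mem _, by simp, fun i _ => ⟨ap_one _, ap_one _⟩⟩
    | insert i s his ih =>
      obtain ⟨w, hwG, h1, h2⟩ := ih
      obtain ⟨v, hvG, hve, hvf, hv⟩ := hw i
      refine ⟨v * w, mul_mem hvG hwG, fun j hj => ?_, fun j hj => ?_⟩
      · rcases Finset.mem_insert.1 hj with rfl | hj
        · simp only [ap_mul, (h2 _ his).1, (h2 _ his).2, hve, hvf]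
          trivial
        · have hji : j ≠ i := fun h => his (h ▸ hj)
          simp only [ap_mul, (h1 j hj).1, (h1 j hj).2, (hv j hji).2, true_and]
          rw [← neg_one_smul F (e j), ap_smul, (hv j hji).1]
      · simp only [Finset.mem_insert, not_or] at hj
        simp only [ap_mul, (h2 j hj.2).1, (h2 j hj.2).2, (hv j hj.1).1, (hv j hj.1).2]
        trivial
  obtain ⟨w, hwG, hw1, -⟩ := hall Finset.univ
  have hmap : ∀ (x : ι → F) (V : Submodule F (ι → F)) (s : Set (ι → F)),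
      x ∈ Submodule.span F s → (∀ y ∈ s, ap w y ∈ V) → ap w x ∈ V := fun x V s hx h =>
    (Submodule.span_le (p := V.comap (apEquiv w).toLinearMap)).2 h hx
  refine ⟨w, hwG, fun x hx => ?_, fun x hx => ?_⟩
  · refine hmap x U' (Set.range e) ?_ ?_
    · have h := b.mem_span ⟨x, hx⟩
      have h' := Submodule.mem_map_of_mem (f := U.subtype) h
      rw [Submodule.map_span, ← Set.range_comp] at h'
      exact h'
    · rintro _ ⟨i, rfl⟩
      rw [(hw1 i (Finset.mem_univ i)).1]
      exact hfU i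
  · refine hmap x U (Set.range f) ?_ ?_
    · have hli : LinearIndependent F f := by
        rw [Fintype.linearIndependent_iff]
        intro c hc i
        have h : fl hP (e i) (∑ j, c j • f j) = 0 := by rw [hc, map_zero]
        rw [map_sum, Finset.sum_eq_single i (fun j _ hj => ?_) (by simp)] at h
        · simpa [fl, hP.smul_left, hfe1] using h
        · simp [fl, hP.smul_left, hfe j i hj]
      have hle : Submodule.span F (Set.range f) ≤ U' :=
        Submodule.span_le.2 (by rintro _ ⟨i, rfl⟩; exact hfU i)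
      have := Submodule.eq_of_le_of_finrank_le hle (by
        rw [finrank_span_eq_card hli, Fintype.card_fin, hP.finrank_eq])
      rwa [this]
    · rintro _ ⟨i, rfl⟩
      rw [(hw1 i (Finset.mem_univ i)).2]
      exact U.neg_mem (b i).2

omit hGB in
/-- The hyperbolic element of a pair of isotropic vectors. -/
lemma exists_hyp {w w' : ι → F} (hww : B w w = 0) (hww' : B w' w' = 0) (hw : B w w' = 1) {t : F}
    (ht : t ≠ 0) (htf : τ t = t) :
    ∃ h ∈ G, ∀ x, ap h x = x + ((t - 1) * B x w') • w - ((t⁻¹ - 1) * B x w) • w' := by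
  have hw' : B w' w = -1 := skew_one hS hw
  have hti : τ t⁻¹ = t⁻¹ := by rw [map_inv₀, htf]
  have hm : τ (-1 : F) = -1 := by rw [map_neg, map_one]
  refine ⟨tr hS w t hww * tr hS w' t⁻¹ hww' * tr hS w t hww *
      (tr hS w (-1) hww * tr hS w' (-1) hww' * tr hS w (-1) hww),
    mul_mem (mul_mem (mul_mem (hT _ _ _ htf) (hT _ _ _ hti)) (hT _ _ _ htf))
      (mul_mem (mul_mem (hT _ _ _ hm) (hT _ _ _ hm)) (hT _ _ _ hm)), fun x => ?_⟩
  simp only [ap_mul, ap_tr, hS.add_left, hS.smul_left, hww, hww', hw, hw']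
  match_scalars <;> field_simp <;> ring

omit hGB in
/-- The root elements of the pair lie in the stabiliser. -/
lemma root_mem {M : Subgroup (GL ι F)}
    (hH : ∀ g ∈ G, (MapsIn g U U ∧ MapsIn g U' U') ∨ (MapsIn g U U' ∧ MapsIn g U' U) → g ∈ M)
    {a b : ι → F} (ha : a ∈ U') (hb : b ∈ U) (hab : B a b = 0) :
    ∃ h ∈ M, ∀ x, ap h x = x + B x a • b + B x b • a := by
  obtain ⟨h, hh, hap⟩ := exists_root hS hT (hS.sing' a ha a ha) (hS.sing b hb b hb) hab
  refine ⟨h, hH h hh (Or.inl ⟨fun x hx => ?_, fun x hx => ?_⟩), hap⟩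
  · rw [hap, hS.sing x hx b hb, zero_smul, add_zero]
    exact U.add_mem hx (U.smul_mem _ hb)
  · rw [hap, hS.sing' x hx a ha, zero_smul, add_zero]
    exact U'.add_mem hx (U'.smul_mem _ ha)

/-- A group properly containing the stabiliser of a pair of planes has an element fixing only one. -/
theorem exists_fix_one_four (h4 : Module.finrank F U = 2) {t : F} (ht : t ≠ 0) (ht1 : t * t ≠ 1)
    (htf : τ t = t) (hmv : ∃ d, τ d ≠ d)
    {M : Subgroup (GL ι F)} (hMG : M ≤ G)
    (hH : ∀ g ∈ G, (MapsIn g U U ∧ MapsIn g U' U') ∨ (MapsIn g U U' ∧ MapsIn g U' U) → g ∈ M)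
    {g : GL ι F} (hg : g ∈ M) (hg₁ : ¬ (MapsIn g U U ∧ MapsIn g U' U'))
    (hg₂ : ¬ (MapsIn g U U' ∧ MapsIn g U' U)) :
    ∃ k ∈ M, MapsIn k U U ∧ ∃ x ∈ U', ap k x ∉ U' := by
  have hP := hS
  by_contra hcon
  push Not at hcon
  have hno : ∀ k ∈ M, MapsIn k U U → MapsIn k U' U' := hcon
  have hd := hP.finrank_eq
  obtain ⟨sw, hswG, hsw₁, hsw₂⟩ := exists_swap hS hT
  have hsw : sw ∈ M := hH sw hswG (Or.inr ⟨hsw₁, hsw₂⟩)
  have hno' : ∀ k ∈ M, MapsIn k U' U' → MapsIn k U U := by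
    intro k hk h
    have h1 := hno _ (mul_mem (mul_mem hsw hk) (inv_mem hsw))
      ((hsw₂.mul h).mul (hsw₂.inv hd.ge))
    have h2 := ((hsw₁.inv hd.le).mul h1).mul hsw₁
    intro x hx
    have := h2 x hx
    simpa [mul_assoc, ap_mul, ap_inv_ap] using this
  have hMB : ∀ g ∈ M, ∀ x y, B (ap g x) (ap g y) = B x y := fun g hg => hGB g (hMG hg)
  have ht' : t - 1 ≠ 0 := fun h => ht1 (by rw [sub_eq_zero.1 h, one_mul])
  have hta : t⁻¹ - 1 ≠ 0 := fun h => ht1 (by rw [inv_eq_one.1 (sub_eq_zero.1 h), one_mul])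
  -- an element moving `U` keeps no vector of `U` in it
  have hA : ∀ m ∈ M, ∀ u ∈ U, u ≠ 0 → ap m⁻¹ u ∈ U → MapsIn m U U := by
    intro m hm u hu hu0 humU
    by_contra hmU
    obtain ⟨x, hx, hxU⟩ : ∃ x ∈ U, ap m x ∉ U := by simpa [MapsIn] using hmU
    obtain ⟨r, hr, a, ha, hra⟩ := hP.decomp (ap m x)
    have ha0 : a ≠ 0 := fun h => hxU (by rw [hra, h, add_zero]; exact hr)
    have hua : B u a = 0 := by
      have h := hMB m hm (ap m⁻¹ u) x
      rw [ap_ap_inv, hra, hP.add_right, hP.sing u hu r hr, hP.sing _ humU x hx, zero_add] at h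
      exact h
    obtain ⟨v₀, hv₀, -, hav⟩ := hP.symm'.sep' (S := ⊥) bot_le ha (by simpa using ha0)
    set v := -v₀ with hvdef
    have hv : v ∈ U := U.neg_mem hv₀
    have hva : B v a = 1 := by
      rw [hvdef, ← neg_one_smul F v₀, hP.smul_left, skew_one hS hav]; ring
    have huv : v ∉ Submodule.span F {u} := fun h => by
      obtain ⟨c, hc⟩ := Submodule.mem_span_singleton.1 h
      rw [← hc, hP.smul_left, hua, mul_zero] at hva
      exact one_ne_zero hva.symm
    have huv' : u ∉ Submodule.span F {v} := fun h => by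
      obtain ⟨c, hc⟩ := Submodule.mem_span_singleton.1 h
      rw [← hc, hP.smul_left, hva, mul_one] at hua
      exact hu0 (by rw [← hc, hua, zero_smul])
    obtain ⟨w, hw, hvw, huw⟩ := hP.sep_one hu hv huv'
    have hwa : a ∉ Submodule.span F {w} := fun h => by
      obtain ⟨c, hc⟩ := Submodule.mem_span_singleton.1 h
      rw [← hc, hP.smul_right, hvw, mul_zero] at hva
      exact one_ne_zero hva.symm
    obtain ⟨ρ, s, hrs⟩ := span_two h4 hu hv hu0 huv hr
    set z := a + s • v with hzdef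
    have hmz : ap m⁻¹ z ∈ U := by
      have e : z = ap m x - ρ • u := by rw [hra, hrs, hzdef]; abel
      rw [e, ap_sub, ap_inv_ap, ap_smul]
      exact U.sub_mem hx (U.smul_mem _ humU)
    have hz0 : ap m⁻¹ z ∉ Submodule.span F {ap m⁻¹ u} := fun h => by
      obtain ⟨c, hc⟩ := Submodule.mem_span_singleton.1 h
      have e := congrArg (fun y => B (ap m y) w) hc
      simp only [ap_smul, ap_ap_inv, hP.smul_left, huw, hzdef, hP.add_left, hvw,
        hP.sing' a ha w hw] at e
      have hz : z = 0 := by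
        have h' := congrArg (ap m) hc
        rw [ap_smul, ap_ap_inv, ap_ap_inv] at h'
        rw [← h', show c = 0 by simpa using e, zero_smul]
      refine ha0 (Submodule.disjoint_def.mp hP.compl.disjoint _ ?_ ha)
      rw [eq_neg_of_add_eq_zero_left hz]
      exact U.neg_mem (U.smul_mem _ hv)
    have hmu0 : ap m⁻¹ u ≠ 0 := fun h => hu0 (by rw [← ap_ap_inv m u, h, ap_zero])
    -- the elements keeping the image of `U` keep that of `U'`
    have stab : ∀ l ∈ M, ap m⁻¹ (ap l u) ∈ U → ap m⁻¹ (ap l z) ∈ U →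
        ∀ y, ap m⁻¹ y ∈ U' → ap m⁻¹ (ap l y) ∈ U' := by
      intro l hl hlu hlz y hy
      have hU : MapsIn (m⁻¹ * l * m) U U := fun q hq => by
        obtain ⟨c, e, hce⟩ := span_two h4 humU hmz hmu0 hz0 hq
        have hce' : ap m q = c • u + e • z := by
          rw [hce, ap_add, ap_smul, ap_smul, ap_ap_inv, ap_ap_inv]
        rw [ap_mul, ap_mul, hce', ap_add, ap_add, ap_smul, ap_smul, ap_smul, ap_smul]
        exact U.add_mem (U.smul_mem _ hlu) (U.smul_mem _ hlz)
      have h' := hno _ (mul_mem (mul_mem (inv_mem hm) hl) hm) hU _ hy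
      rwa [ap_mul, ap_mul, ap_ap_inv] at h'
    obtain ⟨l, hlG, hl⟩ := exists_hyp hS hT (hP.sing u hu u hu) (hP.sing' w hw w hw) huw ht htf
    have hwu : B w u = -1 := skew_one hS huw
    have hlM : l ∈ M := hH l hlG (Or.inl ⟨fun q hq => by
        rw [hl, hP.sing q hq u hu, mul_zero, zero_smul, sub_zero]
        exact U.add_mem hq (U.smul_mem _ hu),
      fun q hq => by
        rw [hl, hP.sing' q hq w hw, mul_zero, zero_smul, add_zero]
        exact U'.sub_mem hq (U'.smul_mem _ hw)⟩)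
    have hlu : ap l u = t • u := by
      rw [hl, huw, hP.sing u hu u hu]; match_scalars <;> ring
    have hlz : ap l z = z := by
      simp only [hl, hzdef, hP.add_left, hP.smul_left, hP.sing' a ha w hw, hvw, hP.sing v hv u hu,
        (hP.eq_zero_comm _ _).1 hua]
      simp
    have hst := stab l hlM (by rw [hlu, ap_smul]; exact U.smul_mem _ humU) (by rw [hlz]; exact hmz)
    have hlw : ap l w = t⁻¹ • w := by
      rw [hl, hwu, hP.sing' w hw w hw]; match_scalars <;> ring
    obtain ⟨y, hy, hyu⟩ : ∃ y, ap m⁻¹ y ∈ U' ∧ B y u ≠ 0 := by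
      obtain ⟨q, hq, -, huq⟩ := hP.sep' (S := ⊥) bot_le humU (by simpa using hmu0)
      refine ⟨ap m q, by rwa [ap_inv_ap], fun h => ?_⟩
      rw [← ap_ap_inv m u, hMB m hm, skew_one hS huq] at h
      simp at h
    have hwW : ap m⁻¹ w ∈ U' := by
      have h1 := hst y hy
      have h3 := hst _ h1
      set κ := (t⁻¹ - 1) * B y u with hκ
      have e : t • (ap l y - y) - (ap l (ap l y) - ap l y) =
          (κ * (t⁻¹ - t)) • w := by
        rw [hl (ap l y), hl y]
        simp only [hP.add_left, hP.smul_left, sub_eq_add_neg, ← neg_smul, hP.sing u hu u hu, hP.sing' w hw w hw, huw, hwu, hκ]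
        match_scalars <;> ring
      have hne : κ * (t⁻¹ - t) ≠ 0 := mul_ne_zero (mul_ne_zero hta hyu) fun h => ht1 (by
        have h' := congrArg (· * t) (sub_eq_zero.1 h)
        simpa [inv_mul_cancel₀ ht] using h'.symm)
      have h' : ap m⁻¹ ((κ * (t⁻¹ - t)) • w) ∈ U' := by
        rw [← e, ap_sub, ap_smul, ap_sub, ap_sub]
        exact U'.sub_mem (U'.smul_mem _ (U'.sub_mem h1 hy)) (U'.sub_mem h3 h1)
      rwa [ap_smul, Submodule.smul_mem_iff _ hne] at h'
    obtain ⟨h, hhM, hh⟩ := root_mem hS hT hH ha hu ((hP.eq_zero_comm _ _).1 hua)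
    have hhu : ap h u = u := by rw [hh, hua, hP.sing u hu u hu]; simp
    have hhz : ap h z = z + s • u := by
      simp only [hh, hzdef, hP.add_left, hP.smul_left, hP.sing' a ha a ha, hva, (hP.eq_zero_comm _ _).1 hua,
        hP.sing v hv u hu]
      simp
    have haW : ap m⁻¹ a ∈ U' := by
      have h1 := stab h hhM (by rw [hhu]; exact humU)
        (by rw [hhz, ap_add, ap_smul]; exact U.add_mem hmz (U.smul_mem _ humU)) w hwW
      rw [hh, hP.sing' w hw a ha, hwu, zero_smul, add_zero, neg_one_smul, ← sub_eq_add_neg,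
        ap_sub] at h1
      simpa using U'.sub_mem hwW h1
    have hw0 : w ≠ 0 := fun h0 => by
      rw [(hP.eq_zero_comm u w).2 (by rw [h0, hP.zero_left])] at huw
      exact zero_ne_one huw
    have hU' : MapsIn m⁻¹ U' U' := fun q hq => by
      obtain ⟨c, e, rfl⟩ := span_two (hd.trans h4) hw ha hw0 hwa hq
      rw [ap_add, ap_smul, ap_smul]
      exact U'.add_mem (U'.smul_mem _ hwW) (U'.smul_mem _ haW)
    have hm' : MapsIn m U' U' := by simpa using hU'.inv le_rfl
    exact hmU (hno' m hm hm')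
  -- `g` moves `U` to a plane meeting neither `U` nor `U'`
  have hgU : ¬ MapsIn g U U := fun h => hg₁ ⟨h, hno g hg h⟩
  have hgU' : ¬ MapsIn g U U' := fun h => by
    refine hg₂ ⟨h, ?_⟩
    have h1 := hno _ (mul_mem hsw hg) (hsw₂.mul h)
    intro x hx
    have := (hsw₁.inv hd.le).mul h1 x hx
    simpa [mul_assoc, ap_mul, ap_inv_ap] using this
  have hnot : ∀ u ∈ U, ap g⁻¹ u ∈ U → u = 0 := fun u hu h => by
    by_contra hu0
    exact hgU (hA g hg u hu hu0 h)
  have hnot' : ∀ u ∈ U, ap g⁻¹ u ∈ U' → u = 0 := fun u hu h => by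
    by_contra hu0
    have h1 := hA (g * sw) (mul_mem hg hsw) u hu hu0
      (by rw [_root_.mul_inv_rev, ap_mul]; exact hsw₁.inv hd.le _ h)
    have hm : MapsIn g U' U := by
      have := h1.mul (hsw₁.inv hd.le)
      simpa [mul_assoc] using this
    have h3 := hno _ (mul_mem hg hsw) h1
    have := h3.mul (hsw₂.inv hd.ge)
    exact hgU' (by simpa [mul_assoc] using this)
  choose p hp p' hp' hpp using fun y => hP.decomp (ap g⁻¹ y)
  obtain ⟨x, hx, hq⟩ : ∃ x ∈ U, B (p x) (p' x) ≠ 0 := by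
    by_contra! h
    have huniq : ∀ {a b a' b' : ι → F}, a ∈ U → a' ∈ U → b ∈ U' → b' ∈ U' →
        a + b = a' + b' → a = a' ∧ b = b' := by
      intro a b a' b' ha ha' hb hb' e
      have e' : a - a' = b' - b := by rw [sub_eq_sub_iff_add_eq_add, e, add_comm]
      have h0 := Submodule.disjoint_def.mp hP.compl.disjoint _ (U.sub_mem ha ha')
        (e' ▸ U'.sub_mem hb' hb)
      exact ⟨sub_eq_zero.1 h0, (sub_eq_zero.1 (e' ▸ h0)).symm⟩
    have hcross : ∀ y₁ ∈ U, ∀ y₂ ∈ U, B (p y₁) (p' y₂) = 0 := by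
      intro y₁ hy₁ y₂ hy₂
      have e : p y₁ + p y₂ = p (y₁ + y₂) ∧ p' y₁ + p' y₂ = p' (y₁ + y₂) :=
        huniq (U.add_mem (hp _) (hp _)) (hp _) (U'.add_mem (hp' _) (hp' _)) (hp' _)
          (by rw [← hpp, ap_add, hpp, hpp]; abel)
      have h1 := h _ (U.add_mem hy₁ hy₂)
      rw [← e.1, ← e.2, hP.add_left, hP.add_right, hP.add_right, h y₁ hy₁, h y₂ hy₂] at h1
      have h3 : B (p y₁ + p' y₁) (p y₂ + p' y₂) = 0 := by
        rw [← hpp, ← hpp, ← hMB g hg, ap_ap_inv, ap_ap_inv]; exact hP.sing _ hy₁ _ hy₂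
      simp only [hP.add_left, hP.add_right, hP.sing _ (hp y₁) _ (hp y₂),
        hP.sing' _ (hp' y₁) _ (hp' y₂)] at h3
      rw [hP.skew (p' y₁)] at h3
      obtain ⟨d, hd'⟩ := hmv
      have hdy : d • p y₂ = p (d • y₂) ∧ d • p' y₂ = p' (d • y₂) :=
        huniq (U.smul_mem _ (hp _)) (hp _) (U'.smul_mem _ (hp' _)) (hp' _)
          (by rw [← hpp, ap_smul, hpp, smul_add])
      have e' : p y₁ + p (d • y₂) = p (y₁ + d • y₂) ∧ p' y₁ + p' (d • y₂) = p' (y₁ + d • y₂) :=
        huniq (U.add_mem (hp _) (hp _)) (hp _) (U'.add_mem (hp' _) (hp' _)) (hp' _)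
          (by rw [← hpp, ap_add, hpp, hpp]; abel)
      have h6 := h _ (U.add_mem hy₁ (U.smul_mem d hy₂))
      rw [← e'.1, ← e'.2, ← hdy.1, ← hdy.2, hP.add_left, hP.add_right, hP.add_right, h y₁ hy₁,
        hP.smul_left, hP.smul_left, hP.smul_right, hP.smul_right, h y₂ hy₂] at h6
      have h5 : (τ d - d) * B (p y₁) (p' y₂) = 0 := by linear_combination h6 - d * h1
      exact (mul_eq_zero.1 h5).resolve_left (sub_ne_zero.2 hd')
    obtain ⟨y₂, hy₂, -, hy₂0⟩ := hP.exists_perp_zero 0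
    have hp'0 : p' y₂ ≠ 0 := fun h0 => hy₂0 (hnot _ hy₂ (by rw [hpp, h0, add_zero]; exact hp _))
    let P : U →ₗ[F] U :=
      { toFun := fun y => ⟨p y, hp _⟩
        map_add' := fun y z => Subtype.ext (huniq (hp _) (U.add_mem (hp _) (hp _)) (hp' _)
          (U'.add_mem (hp' y) (hp' z)) (by
            show p ((y : ι → F) + z) + p' ((y : ι → F) + z) = _
            rw [← hpp, ap_add, hpp, hpp]; abel)).1
        map_smul' := fun c y => Subtype.ext (huniq (hp _) (U.smul_mem c (hp _)) (hp' _)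
          (U'.smul_mem c (hp' y)) (by
            show p (c • (y : ι → F)) + p' (c • (y : ι → F)) = _
            rw [← hpp, ap_smul, hpp, smul_add])).1 }
    have hinj : Function.Injective P := (injective_iff_map_eq_zero P).2 fun y hy => by
      have h0 : p y = 0 := congrArg Subtype.val hy
      exact Subtype.ext (hnot' _ y.2 (by rw [hpp, h0, zero_add]; exact hp' _))
    obtain ⟨b, hb, -, hb1⟩ := hP.symm'.sep' (S := ⊥) bot_le (hp' y₂) (by simpa using hp'0)
    obtain ⟨y, hy⟩ := (LinearMap.injective_iff_surjective.1 hinj) ⟨b, hb⟩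
    have hb0 : B b (p' y₂) = 0 := by
      have := hcross y y.2 y₂ hy₂
      rwa [show p y = b from congrArg Subtype.val hy] at this
    rw [(hP.eq_zero_comm _ _).1 hb0] at hb1
    exact zero_ne_one hb1
  -- an element fixing a vector of `U` and moving `U`
  set q := B (p x) (p' x) with hqdef
  have hqf : τ q = q := by
    have h := hP.sing x hx x hx
    rw [← ap_ap_inv g x, hMB g hg, hpp x, hP.add_left, hP.add_right, hP.add_right,
      hP.sing _ (hp x) _ (hp x), hP.sing' _ (hp' x) _ (hp' x), hP.skew (p' x) (p x), ← hqdef] at h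
    linear_combination -h
  have hqi : τ q⁻¹ = q⁻¹ := by rw [map_inv₀, hqf]
  obtain ⟨l, hlG, hl⟩ := exists_hyp hS hT (w := p x) (w' := q⁻¹ • p' x)
    (hP.sing _ (hp x) _ (hp x))
    (hP.sing' _ (U'.smul_mem _ (hp' x)) _ (U'.smul_mem _ (hp' x)))
    (by rw [hP.smul_right, hqi, inv_mul_cancel₀ hq]) ht htf
  have hlM : l ∈ M := hH l hlG (Or.inl ⟨fun y hy => by
      rw [hl, hP.sing y hy _ (hp x), mul_zero, zero_smul, sub_zero]
      exact U.add_mem hy (U.smul_mem _ (hp x)),
    fun y hy => by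
      rw [hl, hP.smul_right, hP.sing' y hy _ (hp' x), mul_zero, mul_zero, zero_smul, add_zero]
      exact U'.sub_mem hy (U'.smul_mem _ (U'.smul_mem _ (hp' x)))⟩)
  set k := g * l * g⁻¹ with hk
  have hkM : k ∈ M := mul_mem (mul_mem hg hlM) (inv_mem hg)
  obtain ⟨b, hb, hbz, hb0⟩ := hP.exists_perp_zero (ap g (p' x))
  have hb' : B (ap g⁻¹ b) (p' x) = 0 := by rw [← hMB g hg, ap_ap_inv]; exact hbz
  have hb'' : B (ap g⁻¹ b) (p x) = 0 := by
    have h := hP.sing b hb x hx
    rw [← ap_ap_inv g b, ← ap_ap_inv g x, hMB g hg, hpp x, hP.add_right, hb', add_zero] at h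
    exact h
  have hkb : ap k b = b := by
    rw [hk, ap_mul, ap_mul, hl, hP.smul_right, hb', hb'']
    simp [ap_ap_inv]
  have hkU := hA k hkM b hb hb0 (by
    rw [show ap k⁻¹ b = b by nth_rw 1 [← hkb]; rw [ap_inv_ap]]; exact hb)
  have hfin := hP.sing x hx _ (hkU x hx)
  rw [hk, ap_mul, ap_mul, ← ap_ap_inv g x, hMB g hg, ap_inv_ap, hl] at hfin
  simp only [hpp x, sub_eq_add_neg, ← neg_smul, hP.add_left, hP.add_right, hP.smul_right,
    hP.sing _ (hp x) _ (hp x), hP.sing' _ (hp' x) _ (hp' x), hP.skew (p' x) (p x), ← hqdef, hqf,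
    hqi, htf, map_neg, map_mul, map_add, map_inv₀, map_one, map_zero] at hfin
  field_simp at hfin
  have e : q * q * (t * t - 1) = 0 := by linear_combination -hfin
  exact mul_ne_zero (mul_ne_zero hq hq) (sub_ne_zero.2 ht1) e


/-- A group properly containing the stabiliser of the pair contains all transvections. -/
theorem tr_mem
    (h4 : Module.finrank F U = 2) {t : F} (ht : t ≠ 0) (ht1 : t * t ≠ 1) (htf : τ t = t)
    (hmv : ∃ d, τ d ≠ d)
    {M : Subgroup (GL ι F)} (hMG : M ≤ G)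
    (hH : ∀ g ∈ G, (MapsIn g U U ∧ MapsIn g U' U') ∨ (MapsIn g U U' ∧ MapsIn g U' U) → g ∈ M)
    {g₀ : GL ι F} (hg₀ : g₀ ∈ M) (hg₁ : ¬ (MapsIn g₀ U U ∧ MapsIn g₀ U' U'))
    (hg₂ : ¬ (MapsIn g₀ U U' ∧ MapsIn g₀ U' U)) (v : ι → F) (c : F) (hv : B v v = 0)
    (hc : τ c = c) : tr hS v c hv ∈ M := by
  have hP := hS
  have hMB : ∀ g ∈ M, ∀ x y, B (ap g x) (ap g y) = B x y := fun g hg => hGB g (hMG hg)
  have hroot : ∀ a ∈ U', ∀ b ∈ U, B a b = 0 →
      ∃ h ∈ M, ∀ x, ap h x = x + B x a • b + B x b • a := by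
    intro a ha b hb hab
    obtain ⟨h, hh, hap⟩ := exists_root hS hT (hP.sing' a ha a ha) (hP.sing b hb b hb) hab
    refine ⟨h, hH h hh (Or.inl ⟨fun x hx => ?_, fun x hx => ?_⟩), hap⟩
    · rw [hap, hP.sing x hx b hb, zero_smul, add_zero]
      exact U.add_mem hx (U.smul_mem _ hb)
    · rw [hap, hP.sing' x hx a ha, zero_smul, add_zero]
      exact U'.add_mem hx (U'.smul_mem _ ha)
  obtain ⟨sw, hswG, hsw₁, hsw₂⟩ := exists_swap hS hT
  have hswM : sw ∈ M := hH sw hswG (Or.inr ⟨hsw₁, hsw₂⟩)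
  obtain ⟨k, hk, hkU, a, ha, hka⟩ :=
    exists_fix_one_four hS hGB hT h4 ht ht1 htf hmv hMG hH hg₀ hg₁ hg₂
  obtain ⟨κ, hκ, A, hA, hkA⟩ := hP.decomp (ap k a)
  have hκ0 : κ ≠ 0 := fun h => hka (by rw [hkA, h, zero_add]; exact hA)
  set μ := B A κ with hμdef
  have hμ' : B κ A = -μ := by
    have h := hMB k hk a a
    rw [hkA, hP.sing' a ha a ha, hP.add_left, hP.add_right, hP.add_right, hP.sing _ hκ _ hκ,
      hP.sing' _ hA _ hA] at h
    linear_combination h
  have hμ : τ μ = μ := by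
    have h := hS.skew κ A
    rw [hμ'] at h
    exact (neg_inj.1 h).symm
  have hΨ : ∀ b ∈ U, B b A = 0 → ∃ h ∈ M, ∀ x,
      ap h x = x + B x κ • b + B x b • κ - (μ * B x b) • b := by
    intro b hb hbA
    set b₀ := ap k⁻¹ b with hb₀def
    have hb₀ : b₀ ∈ U := hkU.inv le_rfl b hb
    have hkb₀ : ap k b₀ = b := ap_ap_inv k b
    have hab₀ : B a b₀ = 0 := by
      rw [← hMB k hk, hkb₀, hkA, hP.add_left, hP.sing κ hκ b hb, zero_add]
      exact (hP.eq_zero_comm _ _).1 hbA
    obtain ⟨h, hh, hap⟩ := hroot a ha b₀ hb₀ hab₀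
    obtain ⟨q, hq, hqap⟩ := hroot A hA (-b) (U.neg_mem hb) (by
      rw [← neg_one_smul F b, hP.smul_right, (hP.eq_zero_comm _ _).1 hbA, mul_zero])
    refine ⟨k * h * k⁻¹ * q, mul_mem (mul_mem (mul_mem hk hh) (inv_mem hk)) hq, fun x => ?_⟩
    have e : ∀ y, ap (k * h * k⁻¹) y = y + B y (κ + A) • b + B y b • (κ + A) := by
      intro y
      obtain ⟨z, rfl⟩ : ∃ z, y = ap k z := ⟨ap k⁻¹ y, (ap_ap_inv k y).symm⟩
      rw [ap_mul, ap_mul, ap_inv_ap, hap, ap_add, ap_add, ap_smul, ap_smul, hkb₀, hkA,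
        ← hMB k hk z a, ← hMB k hk z b₀, hkb₀, hkA]
    rw [ap_mul, e, hqap]
    have hneg : ∀ y, B y (-b) = -B y b := fun y => by
      rw [← neg_one_smul F b, hP.smul_right, map_neg, map_one, neg_one_mul]
    have hnegl : ∀ y, B (-b) y = -B b y := fun y => by
      rw [← neg_one_smul F b, hP.smul_left, neg_one_mul]
    simp only [hneg, hP.add_left, hP.smul_left, hP.add_right, hnegl, hP.sing b hb κ hκ, hbA,
      hP.sing' A hA A hA, hP.sing b hb b hb, (hP.eq_zero_comm _ _).1 hbA, ← hμdef]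
    module
  let C : (ι → F) → Prop := fun w => ∀ c (hw : B w w = 0), τ c = c → tr hP w c hw ∈ M
  have hCmem : ∀ g ∈ M, ∀ w, B w w = 0 → C w → C (ap g w) := by
    intro g hg w hw hC c hgw hc
    have h := mul_mem (mul_mem hg (hC c hw hc)) (inv_mem hg)
    convert h using 1
    refine gl_ext fun x => ?_
    obtain ⟨y, rfl⟩ : ∃ y, x = ap g y := ⟨ap g⁻¹ x, (ap_ap_inv g x).symm⟩
    rw [ap_mul, ap_mul, ap_inv_ap, ap_tr, ap_tr, hMB g hg, ap_add, ap_smul]
  have hCsmul : ∀ (d : F) w, B w w = 0 → C w → C (d • w) := by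
    intro d w hw hC c hdw hc
    have h := hC (d * τ d * c) hw (by rw [map_mul, map_mul, hS.invol, hc]; ring)
    convert h using 1
    refine gl_ext fun x => ?_
    rw [ap_tr, ap_tr, hP.smul_right, smul_smul]
    congr 2
    ring
  -- one centre in `U`
  obtain ⟨p, hp, hp0, hCp⟩ : ∃ p ∈ U, p ≠ 0 ∧ C p := by
    by_cases hμ0 : μ = 0
    · refine ⟨κ, hκ, hκ0, fun c hκκ hc => ?_⟩
      obtain ⟨d, hd⟩ := hS.trace c hc
      obtain ⟨h, hh, hap⟩ := hΨ (d • κ) (U.smul_mem d hκ)
        (by rw [hP.smul_left, hμ', hμ0, neg_zero, mul_zero])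
      convert hh using 1
      refine gl_ext fun x => ?_
      rw [ap_tr, hap, hμ0, hP.smul_right, ← hd]
      module
    · obtain ⟨b, hb, hbA, hb0⟩ := hP.exists_perp_zero A
      refine ⟨b, hb, hb0, fun c hbb hc => ?_⟩
      obtain ⟨d, hd⟩ := hS.trace (c * μ⁻¹) (by rw [map_mul, map_inv₀, hc, hμ])
      obtain ⟨h₁, hh₁, hap₁⟩ := hΨ (d • b) (U.smul_mem d hb)
        (by rw [hP.smul_left, hbA, mul_zero])
      obtain ⟨h₂, hh₂, hap₂⟩ := hΨ b hb hbA
      obtain ⟨h₃, hh₃, hap₃⟩ := hΨ ((d + 1) • b) (U.smul_mem _ hb)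
        (by rw [hP.smul_left, hbA, mul_zero])
      have hmem := mul_mem (inv_mem hh₃) (mul_mem hh₁ hh₂)
      convert hmem using 1
      refine (eq_inv_mul_iff_mul_eq).2 (gl_ext fun x => ?_)
      have hc' : c = (d + τ d) * μ := by rw [hd, inv_mul_cancel_right₀ hμ0]
      simp only [ap_mul, ap_tr, hap₁, hap₂, hap₃, hP.smul_right, hP.add_left, hP.smul_left,
        sub_eq_add_neg, hP.sing b hb κ hκ, hP.sing b hb b hb, hP.sing κ hκ κ hκ,
        hP.sing κ hκ b hb, map_add, map_one, ← neg_smul, hc']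
      module
  -- all of `U`
  have hU : ∀ w ∈ U, C w := by
    intro w hw
    by_cases hwp : w ∈ Submodule.span F {p}
    · obtain ⟨d, rfl⟩ := Submodule.mem_span_singleton.1 hwp
      exact hCsmul d p (hP.sing p hp p hp) hCp
    obtain ⟨a, ha, hca, hpa⟩ := hP.sep_one hp (U.sub_mem hw hp) fun h => hwp (by
      obtain ⟨d, hd⟩ := Submodule.mem_span_singleton.1 h
      by_cases hd0 : d = 0
      · exact absurd (by rw [← hd, hd0, zero_smul]) hp0
      · refine Submodule.mem_span_singleton.2 ⟨1 + d⁻¹, ?_⟩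
        rw [add_smul, one_smul]
        conv_lhs => arg 2; rw [← hd, smul_smul, inv_mul_cancel₀ hd0, one_smul]
        abel)
    obtain ⟨h, hh, hap⟩ := hroot a ha (w - p) (U.sub_mem hw hp) ((hP.eq_zero_comm _ _).1 hca)
    have := hCmem h hh p (hP.sing p hp p hp) hCp
    rwa [hap, hpa, hP.sing p hp _ (U.sub_mem hw hp), one_smul, zero_smul, add_zero,
      add_sub_cancel] at this
  have hU' : ∀ w ∈ U', C w := by
    intro w hw
    have h1 := hCmem sw hswM _ (hP.sing _ (hsw₁.inv hP.finrank_eq.le w hw) _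
      (hsw₁.inv hP.finrank_eq.le w hw)) (hU _ (hsw₁.inv hP.finrank_eq.le w hw))
    rwa [ap_ap_inv] at h1
  -- all isotropic vectors
  obtain ⟨u, hu, w, hw, rfl⟩ := hP.decomp v
  have huu := hP.sing u hu u hu
  have hww := hP.sing' w hw w hw
  by_cases hu0 : u = 0
  · subst hu0
    exact hCsmul 1 w hww (hU' w hw) c (by rwa [one_smul, ← zero_add w]) hc |> fun h => by
      convert h using 1
      exact gl_ext fun x => by simp [ap_tr]
  by_cases hw0 : w = 0
  · subst hw0
    exact hCsmul 1 u huu (hU u hu) c (by rwa [one_smul, ← add_zero u]) hc |> fun h => by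
      convert h using 1
      exact gl_ext fun x => by simp [ap_tr]
  suffices h : C (u + w) from h c hv hc
  by_cases huw : B u w = 0
  · obtain ⟨u₁', hu₁', -, h1⟩ := hP.symm'.sep' (S := ⊥) bot_le hw (by simpa using hw0)
    set u₁ := -u₁' with hu₁def
    have hu₁ : u₁ ∈ U := U.neg_mem hu₁'
    have h₁ : B u₁ w = 1 := by
      rw [hu₁def, ← neg_one_smul F u₁', hP.smul_left, skew_one hS h1]; ring
    have hC₁ : C (u₁ + w) := by
      have := hCmem _ (hU' w hw 1 hww (map_one τ)) u₁ (hP.sing _ hu₁ _ hu₁) (hU u₁ hu₁)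
      rwa [ap_tr, h₁, one_mul, one_smul] at this
    have hiso : B (u₁ + w) (u₁ + w) = 0 := by
      rw [hP.add_left, hP.add_right, hP.add_right, hP.sing _ hu₁ _ hu₁, hww, h₁,
        skew_one hS h₁]
      ring
    set u₂ := u - u₁ with hu₂def
    have hu₂ : u₂ ∈ U := U.sub_mem hu hu₁
    have h₂ : B w u₂ = 1 := by
      have e : B u₂ w = -1 := by rw [hu₂def, hP.sub_left, huw, h₁, zero_sub]
      rw [hS.skew, e, map_neg, map_one, neg_neg]
    have := hCmem _ (hU u₂ hu₂ 1 (hP.sing _ hu₂ _ hu₂) (map_one τ)) _ hiso hC₁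
    rwa [ap_tr, hP.add_left, hP.sing _ hu₁ _ hu₂, h₂, zero_add, one_mul, one_smul, hu₂def,
      show u₁ + w + (u - u₁) = u + w by abel] at this
  · have hfix : τ (B u w)⁻¹ = (B u w)⁻¹ := by
      rw [map_inv₀]
      congr 1
      have h := hv
      rw [hP.add_left, hP.add_right, hP.add_right, huu, hww, hS.skew w u] at h
      linear_combination -h
    have := hCmem _ (hU' w hw _ hww hfix) u huu (hU u hu)
    rwa [ap_tr, inv_mul_cancel₀ huw, one_smul] at this

omit hS hGB hT

/-- The stabiliser of the pair is maximal. -/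
theorem isMaximalIn {k : ℕ} {D : Fin 2 → Submodule F (ι → F)}
    (hD : Cfsg.Geo.IsMDecomposition k D) (hS : HermPair τ B (D 0) (D 1))
    (h4 : Module.finrank F (D 0) = 2) {t : F} (ht : t ≠ 0) (ht1 : t * t ≠ 1) (htf : τ t = t)
    (hmv : ∃ d, τ d ≠ d)
    (hGB : ∀ g ∈ G, ∀ x y, B (ap g x) (ap g y) = B x y)
    (hT : ∀ v c (hv : B v v = 0), τ c = c → tr hS v c hv ∈ G)
    (hgen : ∀ M : Subgroup (GL ι F),
      (∀ v c (hv : B v v = 0), τ c = c → tr hS v c hv ∈ M) → G ≤ M) :
    Cfsg.Geo.IsMaximalIn G (Cfsg.Geo.decompositionStabilizer D ⊓ G) := by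
  have hP := hS
  refine ⟨lt_of_le_of_ne inf_le_right fun he => ?_, fun M hHM hMG => ?_⟩
  · obtain ⟨b, hb, hb0⟩ := Submodule.exists_mem_ne_zero_of_ne_bot (p := D 0) fun h => by
      have := hP.two_le
      rw [h, finrank_bot] at this
      omega
    obtain ⟨a, ha, -, hba⟩ := hP.sep' (S := ⊥) bot_le hb (by simpa using hb0)
    have hbb := hP.sing b hb b hb
    have hm : tr hP b 1 hbb ∈ Cfsg.Geo.decompositionStabilizer D ⊓ G := by
      rw [he]; exact hT _ _ _ (map_one τ)
    have hab : B a b ≠ 0 := fun h => one_ne_zero (hba.symm.trans ((hP.eq_zero_comm _ _).1 h))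
    rcases (mem_pairStab hD).1 hm.1 with ⟨-, h⟩ | ⟨h, -⟩
    · have h' := (D 1).sub_mem (h a ha) ha
      rw [ap_tr, add_sub_cancel_left, one_mul] at h'
      have h'' := Submodule.disjoint_def.1 hP.compl.disjoint _ ((D 0).smul_mem _ hb) h'
      exact hb0 ((smul_eq_zero.1 h'').resolve_left hab)
    · have h' := h b hb
      rw [ap_tr, hbb, mul_zero, zero_smul, add_zero] at h'
      exact hb0 (Submodule.disjoint_def.1 hP.compl.disjoint _ hb h')
  by_cases hM : M ≤ Cfsg.Geo.decompositionStabilizer D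
  · exact Or.inl (le_antisymm (le_inf hM hMG) hHM)
  refine Or.inr (le_antisymm hMG (hgen M ?_))
  obtain ⟨g, hgM, hg⟩ := SetLike.not_le_iff_exists.mp hM
  rw [mem_pairStab hD, not_or] at hg
  exact tr_mem hS hGB hT h4 ht ht1 htf hmv hMG
    (fun h hh hc => hHM ⟨(mem_pairStab hD).2 hc, hh⟩) hgM hg.1 hg.2

end HermPair


/-- Stabilisers of pairs of complementary totally isotropic planes. -/
theorem pair_isMaximalIn [Finite F] {σ : F ≃+* F} {h : (ι → F) → (ι → F) → F}
    (hh : Cfsg.Geo.IsUnitaryForm σ h) (hn : Fintype.card ι = 4)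
    {t : F} (ht : t ≠ 0) (ht1 : t * t ≠ 1) (htf : σ t = t)
    {D : Fin 2 → Submodule F (ι → F)} (hD : Cfsg.Geo.IsMDecomposition 2 D)
    (hts : ∀ i, Cfsg.Geo.IsTotallySingularFor h (D i)) :
    Cfsg.Geo.IsMaximalIn (isom h ⊓ Cfsg.Geo.specialLinear ι F)
      (Cfsg.Geo.decompositionStabilizer D ⊓ (isom h ⊓ Cfsg.Geo.specialLinear ι F)) := by
  obtain ⟨ζ, hζ, hf⟩ := exists_skewForm_of_unitary hh
  have hS : HermPair σ (fun u v => ζ * h u v) (D 0) (D 1) :=
    { add_left := hf.add_left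
      smul_left := hf.smul_left
      add_right := Unitary.add_right hf
      smul_right := Unitary.smul_right hf
      eq_zero_comm := fun x y => Unitary.eq_zero_comm hf
      sep := fun S x hx => by
        obtain ⟨φ, hφ, hφx⟩ := exists_functional_eq_one hx
        obtain ⟨p, rfl⟩ := Unitary.exists_eq_fl hf φ
        exact ⟨p, fun s hs => hφ s hs, hφx⟩
      compl := isCompl_pair hD
      sing := fun a ha b hb => by simp [hts 0 a ha b hb]
      sing' := fun a ha b hb => by simp [hts 1 a ha b hb]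
      finrank_eq := by rw [hD.finrank_eq, hD.finrank_eq]
      two_le := (hD.finrank_eq 0).ge
      invol := hf.involutive
      skew := hf.skew
      trace := fun t ht => by
        obtain ⟨θ, hθ⟩ := Unitary.exists_trace hf
        exact ⟨θ * t, by rw [map_mul, ht, ← add_mul, hθ, one_mul]⟩ }
  have htr : ∀ v c (hv : ζ * h v v = 0), HermPair.tr hS v c hv = Unitary.T hf v c hv :=
    fun v c hv => gl_ext fun x => by rw [HermPair.ap_tr, Unitary.ap_T hf]
  have h' := HermPair.isMaximalIn hD hS (G := Unitary.sisom hf) (hD.finrank_eq 0) ht ht1 htf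
    (not_forall.1 fun h => hf.ne_refl (RingEquiv.ext h))
    (fun g hg x y => hg.1 x y)
    (fun v c hv hc => by rw [htr]; exact Unitary.T_mem hf hv hc)
    (fun M hM => Unitary.le_of_hasT hf (by omega) fun v hv c hc => by
      rw [← htr v c hv]; exact hM _ _ _ hc)
  rwa [Unitary.sisom, isom_mul_const hζ] at h'

end CfsgLib.Geometric.SUFour
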